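import Groth.Agent.Lib.K0Curve28.Det
import Groth.Agent.Lib.CurveMult.DualDeg
import Groth.Agent.Lib.FunFld.Schmidt
import Groth.Agent.Lib.Cube.Pic
import Groth.Prelude.Def_SGA6

/-!
# The Grothendieck group of bundles on a regular proper curve
-/

set_option autoImplicit false
set_option backward.isDefEq.respectTransparency false
set_option linter.style.haveILetI false
set_option maxHeartbeats 1000000

universe u

open CategoryTheory CategoryTheory.Limits AlgebraicGeometry TopologicalSpace Opposite WithZero
open GrothLib.InvExt (mres)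
open GrothLib.CurveRR (RegCurve CP place oD incl oval mkSec isInvertible_oD)
open _root_.FunFld (Place Divisor)

noncomputable section

namespace GrothLib.K0Curve28

variable {X : Scheme.{u}}

/-- The class of a bundle. -/
abbrev κ (M : X.Modules) : SGA6.Kvb X := KZero.clSub (fun M : X.Modules => FlatMod.IsFinLocFree M) M

theorem κ_ses {S : ShortComplex X.Modules} (hS : S.ShortExact) (h₁ : FlatMod.IsFinLocFree S.X₁)
    (h₂ : FlatMod.IsFinLocFree S.X₂) (h₃ : FlatMod.IsFinLocFree S.X₃) : κ S.X₂ = κ S.X₁ + κ S.X₃ :=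
  K0Sub.clSub_add hS h₁ h₂ h₃

theorem κ_iso {M N : X.Modules} (e : M ≅ N) (hM : FlatMod.IsFinLocFree M) : κ M = κ N :=
  RegSheaf.clSub_iso (P := fun M : X.Modules => FlatMod.IsFinLocFree M)
    (fun _ hZ => DCoh.isFinLocFree_of_isZero hZ) e hM (DCoh.isFinLocFree_of_iso e hM)

variable [IsIntegral X] [RegCurve X]

variable (k : Type u) [Field k] [X.Over (Spec (CommRingCat.of k))] [IsProper (X ↘ Spec (CommRingCat.of k))]

theorem isFinLocFree_oD (D : Divisor k X.functionField) : FlatMod.IsFinLocFree (oD k D) :=
  FinCov.isFinLocFree_of_rank (Euler.isFinLocFreeOfRank_one_of_invertible (isInvertible_oD k D))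

section Scale

open GrothLib.CurveRR (oDData oval_ext oval_bound oval_add oval_smul isFG)

/-- Multiplication by a rational function. -/
noncomputable def scaleHom {D E : Divisor k X.functionField} (f : X.functionField)
    (h : ∀ x : CP X, exp (D (place k x)) * (place k x).1 f ≤ exp (E (place k x))) : oD k D ⟶ oD k E :=
  ⟨PresheafOfModules.homMk
    { app := fun V => AddCommGrpCat.ofHom
        { toFun := fun s => (oDData k E).lift (fun hV => f * oval k (V := V.unop) s hV.down) fun x hx => by
            refine (map_mul (place k x).1 f _).le.trans ?_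
            exact ((mul_le_mul_right (oval_bound (V := V.unop) s x hx) _).trans_eq (mul_comm _ _)).trans (h x)
          map_zero' := oval_ext fun hV => by
            show f * oval k (V := V.unop) (0 : Γ(oD k D, V.unop)) hV = 0
            rw [show oval k (V := V.unop) (0 : Γ(oD k D, V.unop)) hV = 0 from rfl, mul_zero]
          map_add' := fun s t => oval_ext fun hV => by
            show f * oval k (V := V.unop) (s + t) hV = f * oval k (V := V.unop) s hV + f * oval k (V := V.unop) t hV
            exact (congrArg (f * ·) (oval_add (V := V.unop) s t hV)).trans (mul_add _ _ _) }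
      naturality := fun _ _ _ => rfl } fun V r s => oval_ext fun hV => by
        show f * oval k (V := V.unop) (r • s) hV = _
        erw [oval_smul, oval_smul]
        exact mul_left_comm _ _ _⟩

theorem oval_scaleHom {D E : Divisor k X.functionField} (f : X.functionField)
    (h : ∀ x : CP X, exp (D (place k x)) * (place k x).1 f ≤ exp (E (place k x))) {V : X.Opens}
    (s : Γ(oD k D, V)) (hV : genericPoint X ∈ V) : oval k ((scaleHom k f h).app V s) hV = f * oval k s hV := rfl

/-- Linearly equivalent divisors give isomorphic modules. -/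
theorem nonempty_iso_of_sub_mem {D E : Divisor k X.functionField}
    (h : D - E ∈ _root_.FunFld.prinDivs k X.functionField) : Nonempty (oD k D ≅ oD k E) := by
  obtain ⟨f, hf0, hf⟩ := (FunFld.mem_prinDivs_iff (isFG k) _).1 h
  have hP : ∀ x : CP X, D (place k x) - E (place k x) = (place k x).ord f := fun x => by
    rw [← (isFG k).div_apply f (place k x), hf]; rfl
  have h1 : ∀ x : CP X, exp (D (place k x)) * (place k x).1 f ≤ exp (E (place k x)) := fun x => by
    rw [FunFld.val_eq (place k x) hf0, ← exp_add, exp_le_exp]; linarith [hP x]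
  have h2 : ∀ x : CP X, exp (E (place k x)) * (place k x).1 f⁻¹ ≤ exp (D (place k x)) := fun x => by
    rw [map_inv₀, FunFld.val_eq (place k x) hf0, ← exp_neg, ← exp_add, exp_le_exp]; linarith [hP x]
  refine ⟨⟨scaleHom k f h1, scaleHom k f⁻¹ h2, ?_, ?_⟩⟩ <;>
  · refine Scheme.Modules.hom_ext _ _ fun V => ?_
    ext s
    refine oval_ext fun hV => ?_
    first
      | exact inv_mul_cancel_left₀ hf0 _
      | exact mul_inv_cancel_left₀ hf0 _

end Scale

theorem modularity (D E : Divisor k X.functionField) :
    κ (oD k D) + κ (oD k E) = κ (oD k (D ⊓ E)) + κ (oD k (D ⊔ E)) := by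
  let i₁ : oD k (D ⊓ E) ⟶ oD k D := incl inf_le_left
  let i₂ : oD k (D ⊓ E) ⟶ oD k E := incl inf_le_right
  let j₁ : oD k D ⟶ oD k (D ⊔ E) := incl le_sup_left
  let j₂ : oD k E ⟶ oD k (D ⊔ E) := incl le_sup_right
  have hcomm : i₁ ≫ j₁ = i₂ ≫ j₂ := by
    refine Scheme.Modules.hom_ext _ _ fun V => ?_
    ext s
    exact CurveRR.oval_ext fun hV => rfl
  let f : oD k (D ⊓ E) ⟶ oD k D ⊞ oD k E := biprod.lift i₁ (-i₂)
  let g : oD k D ⊞ oD k E ⟶ oD k (D ⊔ E) := biprod.desc j₁ j₂
  have hfg : f ≫ g = 0 := by
    simp only [f, g, biprod.lift_desc, Preadditive.neg_comp, hcomm, add_neg_cancel]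
  have hdec : ∀ (U : X.Opens) (m : Γ(oD k D ⊞ oD k E, U)),
      m = (biprod.inl : oD k D ⟶ _ ⊞ oD k E).app U ((biprod.fst : oD k D ⊞ oD k E ⟶ _).app U m) +
        (biprod.inr : oD k E ⟶ oD k D ⊞ _).app U ((biprod.snd : oD k D ⊞ oD k E ⟶ _).app U m) := fun U m => by
    have h := congrArg (fun t : oD k D ⊞ oD k E ⟶ _ => t.app U m) (biprod.total (X := oD k D) (Y := oD k E))
    simp only [Scheme.Modules.Hom.add_app, Scheme.Modules.Hom.comp_app, Scheme.Modules.Hom.id_app] at h
    exact h.symm
  have hg : ∀ (U : X.Opens) (m : Γ(oD k D ⊞ oD k E, U)),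
      g.app U m = j₁.app U ((biprod.fst : oD k D ⊞ oD k E ⟶ _).app U m) +
        j₂.app U ((biprod.snd : oD k D ⊞ oD k E ⟶ _).app U m) := fun U m => by
    have h : g = biprod.fst ≫ j₁ + biprod.snd ≫ j₂ := biprod.desc_eq
    rw [h]
    rfl
  have hS : (ShortComplex.mk f g hfg).ShortExact := by
    refine ExtPowX.Ses.shortExact_of_local _ ?_ ?_ ?_
    · intro U m hm x hx
      refine ⟨U, le_rfl, hx, ?_⟩
      rw [InvExt.mres_self]
      have h : (biprod.fst : oD k D ⊞ oD k E ⟶ _).app U (f.app U m) = 0 := by
        rw [show f.app U m = 0 from hm]; exact map_zero _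
      have h' : i₁.app U m = 0 := by
        rw [show i₁ = f ≫ biprod.fst from (biprod.lift_fst _ _).symm]
        exact h
      exact CurveRR.oval_ext fun hV => (CurveRR.oval_incl (inf_le_left : D ⊓ E ≤ D) m hV).symm.trans
        (congrArg (fun z => oval k z hV) h')
    · intro U m hm x hx
      have hη : genericPoint X ∈ U := ProjCoh.genericPoint_mem hx
      let a := (biprod.fst : oD k D ⊞ oD k E ⟶ _).app U m
      let b := (biprod.snd : oD k D ⊞ oD k E ⟶ _).app U m
      have hab : oval k a hη + oval k b hη = 0 := by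
        have h := congrArg (fun z : Γ(oD k (D ⊔ E), U) => oval k z hη) ((hg U m).symm.trans hm)
        exact h
      have hbound : ∀ z : CP X, z.1 ∈ U → (place k z).1 (oval k a hη) ≤ exp ((D ⊓ E) (place k z)) := by
        intro z hz
        rw [Finsupp.inf_apply]
        rcases min_choice (D (place k z)) (E (place k z)) with h | h <;> rw [h]
        · exact CurveRR.oval_bound a z hz
        · rw [eq_neg_of_add_eq_zero_left hab, Valuation.map_neg]
          exact CurveRR.oval_bound b z hz
      let c := mkSec k (D ⊓ E) U (oval k a hη) hbound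
      refine ⟨U, le_rfl, c, hx, ?_⟩
      rw [InvExt.mres_self]
      refine (hdec U _).trans (Eq.trans (congrArg₂ (· + ·) (congrArg _ ?_) (congrArg _ ?_)) (hdec U m).symm)
      · show (f ≫ biprod.fst).app U c = a
        rw [show f ≫ biprod.fst = i₁ from biprod.lift_fst _ _]
        exact CurveRR.oval_ext fun hV => rfl
      · show (f ≫ biprod.snd).app U c = b
        rw [show f ≫ biprod.snd = -i₂ from biprod.lift_snd _ _]
        refine CurveRR.oval_ext fun hV => ?_
        show -(oval k a hη) = oval k b hη
        exact (neg_eq_of_add_eq_zero_right hab)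
    · intro U m x hx
      have hη : genericPoint X ∈ U := ProjCoh.genericPoint_mem hx
      have hfin : {z : CP X | (D (place k z) ≠ E (place k z)) ∧ z.1 ≠ x}.Finite := by
        refine (Set.Finite.preimage (CurveRR.place_injective (k := k)).injOn
          (D.finite_support.union E.finite_support)).subset ?_
        rintro z ⟨hz, -⟩
        simp only [Set.mem_preimage, Set.mem_union, Function.mem_support]
        by_contra h
        push Not at h
        exact hz (h.1.trans h.2.symm)
      obtain ⟨V, hV⟩ := CurveRR.exists_open_avoiding hfin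
      have hxV : x ∈ U ⊓ V := ⟨hx, (hV x).2 fun z hz => hz.2⟩
      have hEq : ∀ z : CP X, z.1 ∈ U ⊓ V → z.1 ≠ x → D (place k z) = E (place k z) := fun z hz hne => by
        by_contra h
        exact (hV z.1).1 hz.2 z ⟨h, hne⟩ rfl
      by_cases hcase : ∀ z : CP X, z.1 = x → E (place k z) ≤ D (place k z)
      · have hbound : ∀ z : CP X, z.1 ∈ U ⊓ V → (place k z).1 (oval k m hη) ≤ exp (D (place k z)) := by
          intro z hz
          refine (CurveRR.oval_bound m z hz.1).trans (exp_le_exp.2 ?_)
          rw [Finsupp.sup_apply]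
          refine max_le le_rfl ?_
          by_cases h : z.1 = x
          · exact hcase z h
          · exact (hEq z hz h).ge
        let a := mkSec k D (U ⊓ V) (oval k m hη) hbound
        refine ⟨U ⊓ V, inf_le_left, (biprod.inl : oD k D ⟶ _ ⊞ oD k E).app _ a, hxV, ?_⟩
        show (biprod.inl ≫ g).app _ a = _
        rw [show biprod.inl ≫ g = j₁ from biprod.inl_desc _ _]
        exact CurveRR.oval_ext fun hW => rfl
      · push Not at hcase
        obtain ⟨z₀, hz₀, hlt⟩ := hcase
        have hbound : ∀ z : CP X, z.1 ∈ U ⊓ V → (place k z).1 (oval k m hη) ≤ exp (E (place k z)) := by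
          intro z hz
          refine (CurveRR.oval_bound m z hz.1).trans (exp_le_exp.2 ?_)
          rw [Finsupp.sup_apply]
          refine max_le ?_ le_rfl
          by_cases h : z.1 = x
          · obtain rfl : z = z₀ := Subtype.ext (h.trans hz₀.symm)
            exact hlt.le
          · exact (hEq z hz h).le
        let a := mkSec k E (U ⊓ V) (oval k m hη) hbound
        refine ⟨U ⊓ V, inf_le_left, (biprod.inr : oD k E ⟶ oD k D ⊞ _).app _ a, hxV, ?_⟩
        show (biprod.inr ≫ g).app _ a = _
        rw [show biprod.inr ≫ g = j₂ from biprod.inr_desc _ _]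
        exact CurveRR.oval_ext fun hW => rfl
  have hD := isFinLocFree_oD k D
  have hE := isFinLocFree_oD k E
  have h1 := κ_ses hS (isFinLocFree_oD k _) (DCoh.isFinLocFree_biprod hD hE) (isFinLocFree_oD k _)
  have h2 := κ_ses (S := ShortComplex.mk (biprod.inl : oD k D ⟶ oD k D ⊞ oD k E) biprod.snd biprod.inl_snd)
    (ShortComplex.Splitting.ofHasBinaryBiproduct _ _).shortExact hD (DCoh.isFinLocFree_biprod hD hE) hE
  exact h2.symm.trans h1

/-- `D ↦ [O(D)] - [O]`. -/
def Φ (D : Divisor k X.functionField) : SGA6.Kvb X :=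
  κ (oD k D) - κ (oD k (0 : Divisor k X.functionField))

theorem Φ_zero : Φ k (0 : Divisor k X.functionField) = 0 := sub_self _

theorem Φ_modular (a b : Divisor k X.functionField) : Φ k a + Φ k b = Φ k (a ⊓ b) + Φ k (a ⊔ b) := by
  have h := modularity k a b
  simp only [Φ]
  calc _ = κ (oD k a) + κ (oD k b) - κ (oD k (0 : Divisor k X.functionField)) - κ (oD k 0) := by abel
    _ = _ := by rw [h]; abel

theorem Φ_congr {D E : Divisor k X.functionField} (h : D - E ∈ _root_.FunFld.prinDivs k X.functionField) :
    Φ k D = Φ k E := by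
  rw [Φ, Φ, κ_iso (nonempty_iso_of_sub_mem k h).some (isFinLocFree_oD k D)]

theorem Φ_disjoint (a b : Divisor k X.functionField) (h : ∀ P, a P = 0 ∨ b P = 0) :
    Φ k (a + b) = Φ k a + Φ k b := by
  have h1 := Φ_modular k a b
  have h2 := Φ_modular k (a + b) 0
  have e1 : a ⊓ b = (a + b) ⊓ 0 := Finsupp.ext fun P => by
    simp only [Finsupp.inf_apply, Finsupp.add_apply, Finsupp.coe_zero, Pi.zero_apply]
    rcases h P with e | e <;> simp [e, inf_comm]
  have e2 : a ⊔ b = (a + b) ⊔ 0 := Finsupp.ext fun P => by
    simp only [Finsupp.sup_apply, Finsupp.add_apply, Finsupp.coe_zero, Pi.zero_apply]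
    rcases h P with e | e <;> simp [e, sup_comm]
  rw [h1, e1, e2, ← h2, Φ_zero, add_zero]

theorem Φ_single_succ (P : Place k X.functionField) (m : ℤ) :
    Φ k (Finsupp.single P m) = Φ k (Finsupp.single P (m - 1)) + Φ k (Finsupp.single P 1) := by
  obtain ⟨f, hf0, hf⟩ := FunFld.exists_val_eq P (-1)
  have hord : P.ord f = 1 := by rw [FunFld.ord_eq_of_val_eq P hf, neg_neg]
  let d := _root_.FunFld.div k f
  have hd : d ∈ _root_.FunFld.prinDivs k X.functionField :=
    (FunFld.mem_prinDivs_iff (CurveRR.isFG k) _).2 ⟨f, hf0, rfl⟩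
  have hdP : d P = 1 := ((CurveRR.isFG k).div_apply f P).trans hord
  let r : Divisor k X.functionField := Finsupp.single P 1 - d
  have hr : r P = 0 := by simp [r, hdP]
  have key : ∀ n : ℤ, Φ k (Finsupp.single P n) = Φ k (Finsupp.single P (n - 1)) + Φ k r := fun n => by
    have hsum : Φ k (Finsupp.single P n) = Φ k (Finsupp.single P (n - 1) + r) := Φ_congr k (by
      have e : Finsupp.single P n - (Finsupp.single P (n - 1) + r) = d := by
        simp only [r, Finsupp.single_sub]; abel
      rw [e]; exact hd)
    rw [hsum]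
    refine Φ_disjoint k _ _ fun Q => ?_
    by_cases hQ : Q = P
    · exact Or.inr (hQ ▸ hr)
    · exact Or.inl (Finsupp.single_eq_of_ne hQ)
  have h1 : Φ k (Finsupp.single P 1) = Φ k r := by
    have := key 1
    rwa [sub_self, Finsupp.single_zero, Φ_zero, zero_add] at this
  rw [key m, h1]

theorem Φ_single (P : Place k X.functionField) (m : ℤ) :
    Φ k (Finsupp.single P m) = m • Φ k (Finsupp.single P 1) := by
  induction m with
  | zero => rw [Finsupp.single_zero, Φ_zero, zero_smul]
  | succ n ih => rw [Φ_single_succ k P, add_sub_cancel_right, ih, add_smul, one_smul]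
  | pred n ih =>
    have h := Φ_single_succ k P (-(n : ℤ))
    rw [sub_smul, one_smul, ← ih, h, add_sub_cancel_right]

theorem Φ_add (a b : Divisor k X.functionField) : Φ k (a + b) = Φ k a + Φ k b := by
  let T := Finsupp.liftAddHom (α := Place k X.functionField) fun P => zmultiplesHom (SGA6.Kvb X) (Φ k (Finsupp.single P 1))
  have key : ∀ D : Divisor k X.functionField, Φ k D = T D := by
    intro D
    induction D using Finsupp.induction with
    | zero => rw [map_zero, Φ_zero]
    | single_add P m g hP hm ih =>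
      rw [Φ_disjoint k _ _ (fun Q => by
          by_cases hQ : Q = P
          · exact Or.inr (hQ ▸ Finsupp.notMem_support_iff.1 hP)
          · exact Or.inl (Finsupp.single_eq_of_ne hQ)),
        map_add, ← ih, Finsupp.liftAddHom_apply_single, zmultiplesHom_apply, Φ_single]
  rw [key, key a, key b, map_add]

/-- `[O(D)] - [O]` as a homomorphism. -/
def Φhom : Divisor k X.functionField →+ SGA6.Kvb X := AddMonoidHom.mk' (Φ k) (Φ_add k)

include k in
theorem rank_grank {M : X.Modules} (hM : FlatMod.IsFinLocFree M) :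
    FlatMod.IsFinLocFreeOfRank (Euler.grank M) M :=
  haveI := Euler.isNoetherian_of_proper (X := X) k
  Euler.isFinLocFreeOfRank_of_mono CurveRR.pid_stalk (𝟙 M) (Euler.isCoh_of_isFinLocFree hM) hM

theorem κ_structure : κ (Coh.structureModule X) = κ (oD k (0 : Divisor k X.functionField)) :=
  (κ_iso (CurveRR.nonempty_iso_oD_zero k).some.symm (isFinLocFree_oD k _)).symm

theorem decompose_bundle : ∀ (r : ℕ) (E : X.Modules), FlatMod.IsFinLocFreeOfRank r E →
    ∃ (n : ℤ) (D : Divisor k X.functionField), κ E = n • κ (Coh.structureModule X) + Φhom k D := by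
  intro r
  induction r with
  | zero =>
    intro E hE
    exact ⟨0, 0, by rw [zero_smul, map_zero, add_zero]; exact K0Sub.clSub_isZero (Euler.isZero_of_rank_zero hE)⟩
  | succ r ih =>
    intro E hE
    haveI := Euler.isNoetherian_of_proper (X := X) k
    obtain ⟨L, i, hL, hi, hQ⟩ := CurveMult.exists_line_subbundle k r.succ_pos hE
    haveI := hi
    rw [show r.succ - 1 = r from rfl] at hQ
    obtain ⟨n, D, hn⟩ := ih _ hQ
    obtain ⟨D', ⟨e⟩⟩ := CurveRR.exists_iso_oD k hL
    have hLl := FinCov.isFinLocFree_of_rank (Euler.isFinLocFreeOfRank_one_of_invertible hL)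
    have h := κ_ses (Euler.cokernel_shortExact i) hLl (FinCov.isFinLocFree_of_rank hE)
      (FinCov.isFinLocFree_of_rank hQ)
    refine ⟨n + 1, D' + D, ?_⟩
    rw [show κ E = κ L + κ (cokernel i) from h, hn, κ_iso e hLl, map_add, add_smul, one_smul,
      show Φhom k D' = κ (oD k D') - κ (oD k (0 : Divisor k X.functionField)) from rfl, κ_structure k]
    abel

include k in
theorem exists_decomposition (a : SGA6.Kvb X) : ∃ (n : ℤ) (L : X.Modules), PicF.IsInvertible L ∧
    a = (n - 1) • κ (Coh.structureModule X) + κ L := by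
  suffices h : ∃ (n : ℤ) (D : Divisor k X.functionField), a = n • κ (Coh.structureModule X) + Φhom k D by
    obtain ⟨n, D, rfl⟩ := h
    refine ⟨n, oD k D, isInvertible_oD k D, ?_⟩
    rw [sub_smul, one_smul,
      show Φhom k D = κ (oD k D) - κ (oD k (0 : Divisor k X.functionField)) from rfl, κ_structure k]
    abel
  obtain ⟨z, rfl⟩ := QuotientAddGroup.mk_surjective a
  induction z using FreeAbelianGroup.induction_on with
  | zero => exact ⟨0, 0, by rw [zero_smul, map_zero, add_zero]; rfl⟩
  | of p =>
    obtain ⟨n, D, h⟩ := decompose_bundle k _ p.1 (rank_grank k p.2)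
    exact ⟨n, D, (K0Sub.clSub_eq_mk p.2).symm.trans h⟩
  | neg p ih =>
    obtain ⟨n, D, h⟩ := ih
    exact ⟨-n, -D, by rw [QuotientAddGroup.mk_neg, h, neg_smul, map_neg, neg_add]⟩
  | add p q hp hq =>
    obtain ⟨n, D, h⟩ := hp
    obtain ⟨n', D', h'⟩ := hq
    exact ⟨n + n', D + D', by rw [QuotientAddGroup.mk_add, h, h', add_smul, map_add]; abel⟩

include k in
/-- The rank on classes. -/
def rankHom : SGA6.Kvb X →+ ℤ :=
  QuotientAddGroup.lift _ (FreeAbelianGroup.lift fun p => (Euler.grank p.1 : ℤ)) (by
    haveI := Euler.isNoetherian_of_proper (X := X) k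
    refine (AddSubgroup.closure_le _).2 ?_
    rintro _ ⟨S, h₁, h₂, h₃, hS, rfl⟩
    simp only [SetLike.mem_coe, AddMonoidHom.mem_ker, map_sub, FreeAbelianGroup.lift_apply_of]
    rw [Euler.grank_additive hS (Euler.isCoh_of_isFinLocFree h₂)]
    push_cast
    ring)

include k in
theorem rankHom_κ {M : X.Modules} (hM : FlatMod.IsFinLocFree M) : rankHom (κ M) = Euler.grank M :=
  (congrArg (rankHom) (K0Sub.clSub_eq_mk hM)).trans (FreeAbelianGroup.lift_apply_of _ _)

include k in
/-- The determinant of a bundle. -/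
def det {M : X.Modules} (hM : FlatMod.IsFinLocFree M) : Cube.Pic X :=
  Cube.clsMod (isInvertible_wedge (rank_grank k hM))

include k in
/-- The determinant on classes. -/
def detHom : SGA6.Kvb X →+ Additive (Cube.Pic X) :=
  QuotientAddGroup.lift _ (FreeAbelianGroup.lift fun p => Additive.ofMul (det k p.2)) (by
    haveI := Euler.isNoetherian_of_proper (X := X) k
    refine (AddSubgroup.closure_le _).2 ?_
    rintro _ ⟨S, h₁, h₂, h₃, hS, rfl⟩
    simp only [SetLike.mem_coe, AddMonoidHom.mem_ker, map_sub, FreeAbelianGroup.lift_apply_of]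
    obtain ⟨e⟩ := nonempty_det_ses S hS (Euler.grank_additive hS (Euler.isCoh_of_isFinLocFree h₂)).symm
      (rank_grank k h₁) (rank_grank k h₂) (rank_grank k h₃)
    have hi₁ := isInvertible_wedge (rank_grank k h₁)
    have hi₃ := isInvertible_wedge (rank_grank k h₃)
    have h : det k h₂ = det k h₁ * det k h₃ := by
      rw [det, det, det, ← Cube.clsMod_tensorMod hi₁ hi₃]
      exact (Cube.clsMod_eq_iff _ _).2 ⟨e⟩
    rw [h, ofMul_mul]
    abel)

include k in
theorem detHom_line {L : X.Modules} (hL : PicF.IsInvertible L) :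
    detHom k (κ L) = Additive.ofMul (Cube.clsMod hL) := by
  have h1 := Euler.isFinLocFreeOfRank_one_of_invertible hL
  have hl := FinCov.isFinLocFree_of_rank h1
  refine (congrArg (detHom k) (K0Sub.clSub_eq_mk hl)).trans ((FreeAbelianGroup.lift_apply_of _ _).trans ?_)
  refine congrArg Additive.ofMul ((Cube.clsMod_eq_iff _ _).2 ?_)
  dsimp only
  rw [Euler.grank_of_locFree h1]
  exact ExtPowX.nonempty_iso (ExtPowX.isExtPow_wedge hl 1) (ModelK.isExtPow_one L) (Iso.refl L)

include k in
theorem unique_decomposition (n m : ℤ) (L L' : X.Modules) (hL : PicF.IsInvertible L) (hL' : PicF.IsInvertible L')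
    (h : (n - 1) • κ (Coh.structureModule X) + κ L = (m - 1) • κ (Coh.structureModule X) + κ L') :
    n = m ∧ Nonempty (L ≅ L') := by
  have hO : PicF.IsInvertible (Coh.structureModule X) := Euler.isInvertible_structure
  have hlf : ∀ {M : X.Modules}, PicF.IsInvertible M → FlatMod.IsFinLocFree M := fun hM =>
    FinCov.isFinLocFree_of_rank (Euler.isFinLocFreeOfRank_one_of_invertible hM)
  have hr : ∀ {M : X.Modules}, PicF.IsInvertible M → rankHom (κ M) = 1 := fun hM => by
    rw [rankHom_κ k (hlf hM), Euler.grank_of_locFree (Euler.isFinLocFreeOfRank_one_of_invertible hM), Nat.cast_one]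
  have h1 := congrArg (rankHom) h
  simp only [map_add, map_zsmul, hr hO, hr hL, hr hL', smul_eq_mul, mul_one] at h1
  have hnm : n = m := by omega
  subst hnm
  have h2 := congrArg (detHom k) h
  simp only [map_add, map_zsmul, detHom_line k hL, detHom_line k hL'] at h2
  exact ⟨rfl, (Cube.clsMod_eq_iff hL hL').1 (Additive.ofMul.injective (add_left_cancel h2))⟩

end GrothLib.K0Curve28
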