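import Groth.Agent.Lib.ExtPowX.SesSheaf
import Groth.Agent.Lib.ModelK.Exists
import Groth.Agent.Lib.OmegaPn27.Koszul
import Groth.Agent.Lib.Euler.VB
import Groth.Agent.Lib.CurveMult.TwistHom

/-!
# The determinant of an extension of bundles
-/

set_option autoImplicit false
set_option backward.isDefEq.respectTransparency false
set_option linter.style.haveILetI false

universe u

open CategoryTheory CategoryTheory.Limits AlgebraicGeometry

noncomputable section

namespace GrothLib.K0Curve28

variable {X : Scheme.{u}} [IsIntegral X]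

theorem isZero_wedge {E : X.Modules} {r j : ℕ} (hE : FlatMod.IsFinLocFreeOfRank r E) (h : r < j) :
    IsZero (ExtPowX.wedge E j) := by
  have h0 := ModelK.isFinLocFreeOfRank_wedge hE j
  rw [Nat.choose_eq_zero_of_lt h] at h0
  exact Euler.isZero_of_rank_zero h0

theorem isInvertible_wedge {E : X.Modules} {r : ℕ} (hE : FlatMod.IsFinLocFreeOfRank r E) :
    PicF.IsInvertible (ExtPowX.wedge E r) := by
  have h0 := ModelK.isFinLocFreeOfRank_wedge hE r
  rw [Nat.choose_self] at h0
  exact CurveMult.isInvertible_of_rank_one h0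

theorem isZero_tensorMod_right {W L : X.Modules} (h : IsZero L) : IsZero (CohB1.tensorMod W L) :=
  ((DCoh.tensorBi (X := X)).obj W).map_isZero h

open ExtPowX.Ses in
/-- The determinant is multiplicative in short exact sequences of bundles. -/
theorem nonempty_det_ses (S : ShortComplex X.Modules) (hS : S.ShortExact) {a c n : ℕ} (hn : a + c = n)
    (h₁ : FlatMod.IsFinLocFreeOfRank a S.X₁) (h₂ : FlatMod.IsFinLocFreeOfRank n S.X₂)
    (h₃ : FlatMod.IsFinLocFreeOfRank c S.X₃) :
    Nonempty (ExtPowX.wedge S.X₂ n ≅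
      CohB1.tensorMod (ExtPowX.wedge S.X₁ a) (ExtPowX.wedge S.X₃ c)) := by
  have l₁ := FinCov.isFinLocFree_of_rank h₁
  have l₂ := FinCov.isFinLocFree_of_rank h₂
  have l₃ := FinCov.isFinLocFree_of_rank h₃
  have step : ∀ j, ∀ hj : j ≤ n, (ShortComplex.mk (incl S n j) (sig S hS l₁ l₃ (show j + (n - j) = n by omega))
      (incl_sig S hS l₁ l₃ _)).ShortExact := fun j hj => shortExact_step S hS l₁ l₂ l₃ _
  have hgr : ∀ j, j ≤ n → j ≠ a → IsZero (gr S j (n - j)) := fun j hj hne => by
    rcases lt_or_gt_of_ne hne with h | h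
    · exact isZero_tensorMod_right (isZero_wedge h₃ (by omega))
    · exact OmegaPn27.isZero_tensorMod (isZero_wedge h₁ h)
  have hhigh : ∀ d j, j + d = n + 1 → a < j → IsZero (F S n j) := by
    intro d
    induction d with
    | zero => intro j hj _; exact isZero_F_of_lt S n (by omega)
    | succ d ih =>
      intro j hj haj
      have h := (step j (by omega)).exact.isZero_of_both_zeros
        ((ih (j + 1) (by omega) (by omega)).eq_of_src _ _) ((hgr j (by omega) (by omega)).eq_of_tgt _ _)
      exact h
  have hlow : ∀ j, j ≤ a → Nonempty (F S n j ≅ F S n 0) := by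
    intro j
    induction j with
    | zero => intro _; exact ⟨Iso.refl _⟩
    | succ j ih =>
      intro hj
      haveI : IsIso (incl S n j) := (step j (by omega)).isIso_f_iff.2 (hgr j (by omega) (by omega))
      exact ⟨asIso (incl S n j) ≪≫ (ih (by omega)).some⟩
  haveI := isIso_toWedge S n
  obtain ⟨e⟩ := hlow a le_rfl
  haveI : IsIso (sig S hS l₁ l₃ (show a + (n - a) = n by omega)) :=
    (step a (by omega)).isIso_g_iff.2 (hhigh (n - a) (a + 1) (by omega) (by omega))
  have hc : n - a = c := by omega
  subst hc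
  exact ⟨(asIso (toWedge S n)).symm ≪≫ e.symm ≪≫ asIso (sig S hS l₁ l₃ (show a + (n - a) = n by omega))⟩

end GrothLib.K0Curve28
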